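import Groth.Agent.ChevalleyOpen.Comps
import Groth.Agent.OpenDim.Conv
import Groth.Agent.DimFormulaLib.FibreComp
import Groth.Agent.DimFormulaLib.Field
import Groth.Agent.DimFormulaLib.Scheme
import Groth.Prelude.Def_Cyc
import Mathlib.AlgebraicGeometry.Morphisms.UniversallyOpen

/-!
# Local dimension along a flat morphism of given relative dimension
-/

set_option autoImplicit false

universe u

open CategoryTheory AlgebraicGeometry TopologicalSpace Topology

namespace Groth.Agent.FlatRelDim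

lemma exists_iInf_eq {ι : Sort*} [Nonempty ι] (g : ι → WithBot ℕ∞) : ∃ i, g i = ⨅ j, g j := by
  obtain ⟨m, ⟨i, rfl⟩, hmin⟩ := WellFounded.has_min (wellFounded_lt (α := WithBot ℕ∞)) (Set.range g)
    (Set.range_nonempty g)
  exact ⟨i, le_antisymm (le_iInf fun j => not_lt.1 (hmin _ ⟨j, rfl⟩)) (iInf_le _ i)⟩

lemma iSup_add_le {ι : Sort*} [Nonempty ι] (a : ι → WithBot ℕ∞) (d : ℕ) (C : WithBot ℕ∞)
    (ha : ∀ i, 0 ≤ a i) (h : ∀ i, a i + (d : WithBot ℕ∞) ≤ C) : (⨆ i, a i) + (d : WithBot ℕ∞) ≤ C := by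
  rcases C with _ | C
  · obtain ⟨i⟩ := ‹Nonempty ι›
    have h1 := ha i
    have h2 := h i
    cases hai : a i with
    | bot => rw [hai] at h1; exact absurd h1 (by simp)
    | coe v =>
      rw [hai] at h2
      exact absurd h2 (by
        show ¬ ((v : WithBot ℕ∞) + (d : WithBot ℕ∞) ≤ (⊥ : WithBot ℕ∞))
        simp [le_bot_iff, WithBot.add_eq_bot])
  · induction C using ENat.recTopCoe with
    | top => exact le_top
    | coe n =>
      have hbound : ∀ i, d ≤ n ∧ a i ≤ ((n - d : ℕ) : WithBot ℕ∞) := fun i => by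
        have h1 := ha i
        have h2 := h i
        cases hai : a i with
        | bot => rw [hai] at h1; exact absurd h1 (by simp)
        | coe v =>
          rw [hai] at h2
          replace h2 : (v : WithBot ℕ∞) + ((d : ℕ∞) : WithBot ℕ∞) ≤ ((n : ℕ∞) : WithBot ℕ∞) := h2
          rw [← WithBot.coe_add, WithBot.coe_le_coe] at h2
          induction v using ENat.recTopCoe with
          | top => simp at h2
          | coe m =>
            have h3 : m + d ≤ n := by exact_mod_cast h2
            refine ⟨by omega, ?_⟩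
            exact WithBot.coe_le_coe.2 (Nat.cast_le.2 (show m ≤ n - d by omega))
      obtain ⟨i⟩ := ‹Nonempty ι›
      refine (add_le_add (iSup_le fun j => (hbound j).2) le_rfl).trans ?_
      have h4 : n - d + d ≤ n := by have := (hbound i).1; omega
      refine le_trans (le_of_eq ?_) (WithBot.coe_le_coe.2 (Nat.cast_le.2 h4))
      rfl

variable {X Y : Scheme.{u}}

lemma stalk_le_dim_opens (U : X.Opens) (x : X) (hx : x ∈ U) :
    ringKrullDim (X.presheaf.stalk x) ≤ topologicalKrullDim (U : Set X) := by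
  show _ ≤ topologicalKrullDim ↥(U : Scheme.{u})
  rw [DimFormulaLib.topologicalKrullDim_eq_iSup_stalk]
  exact le_iSup_of_le (⟨x, hx⟩ : (U : Scheme.{u}))
    (ringKrullDim_eq_of_ringEquiv (U.stalkIso ⟨x, hx⟩).commRingCatIsoToRingEquiv).ge

lemma dim_opens (U : X.Opens) :
    topologicalKrullDim (U : Set X) = ⨆ x : U, ringKrullDim (X.presheaf.stalk x.1) := by
  show topologicalKrullDim ↥(U : Scheme.{u}) = _
  rw [DimFormulaLib.topologicalKrullDim_eq_iSup_stalk]
  exact iSup_congr fun x => ringKrullDim_eq_of_ringEquiv (U.stalkIso x).commRingCatIsoToRingEquiv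

variable (f : X ⟶ Y) [IsLocallyNoetherian X] [IsLocallyNoetherian Y] [Flat f] [LocallyOfFiniteType f]

theorem stalk_formula (x : X) :
    ringKrullDim (X.presheaf.stalk x) = ringKrullDim (Y.presheaf.stalk (f x)) +
      ringKrullDim ((f.fiber (f x)).presheaf.stalk (f.asFiber x)) := by
  haveI : LocallyOfFinitePresentation f := LocallyOfFinitePresentation.iff_locallyOfFiniteType.2 ‹_›
  have ho : IsOpenMap f := f.isOpenMap
  refine OpenDim.dim_formula_of_isOpenAt f x (OpenDim.forall_max_of_fibre f x _ fun z _ _ => ?_)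
  intro U hU
  obtain ⟨V, hVU, hV, hzV⟩ := mem_nhds_iff.1 hU
  exact Filter.mem_of_superset ((ho V hV).mem_nhds ⟨_, hzV, rfl⟩) (Set.image_mono hVU)

theorem localDim_eq (d : ℕ) (hd : Cyc.HasRelDim f d) (x : X) :
    FlatMor.localDim ↥X x = FlatMor.localDim ↥Y (f x) + (d : WithBot ℕ∞) := by
  haveI : LocallyOfFinitePresentation f := LocallyOfFinitePresentation.iff_locallyOfFiniteType.2 ‹_›
  have ho : IsOpenMap f := f.isOpenMap
  refine le_antisymm ?_ (le_iInf fun U => ?_)
  · haveI : Nonempty {V : Y.Opens // f x ∈ V} := ⟨⟨⊤, trivial⟩⟩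
    obtain ⟨V, hV⟩ := exists_iInf_eq fun V : {V : Y.Opens // f x ∈ V} => topologicalKrullDim (V.1 : Set Y)
    refine (iInf_le _ (⟨f ⁻¹ᵁ V.1, V.2⟩ : {U : X.Opens // x ∈ U})).trans ?_
    show topologicalKrullDim ((f ⁻¹ᵁ V.1 : X.Opens) : Set X) ≤ _
    rw [dim_opens]
    refine iSup_le fun z => ?_
    rw [stalk_formula f z.1]
    refine add_le_add ((stalk_le_dim_opens V.1 (f z.1) z.2).trans hV.le) ?_
    refine le_trans ?_ (DimFormulaLib.topologicalKrullDim_fiber_le (f := f) (y := f z.1) (D := (d : WithBot ℕ∞)) fun Z hZ => (hd (f z.1) Z hZ).le)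
    rw [DimFormulaLib.topologicalKrullDim_eq_iSup_stalk]
    exact le_iSup (fun w => ringKrullDim ((f.fiber (f z.1)).presheaf.stalk w)) (f.asFiber z.1)
  · obtain ⟨U, hxU⟩ := U
    let V : Y.Opens := ⟨f '' (U : Set X), ho _ U.2⟩
    refine le_trans (add_le_add (iInf_le _ (⟨V, x, hxU, rfl⟩ : {V : Y.Opens // f x ∈ V})) le_rfl) ?_
    change topologicalKrullDim (V : Set Y) + _ ≤ _
    rw [dim_opens]
    haveI : Nonempty { y // y ∈ V } := ⟨⟨f x, x, hxU, rfl⟩⟩
    refine iSup_add_le _ d _ (fun y => ?_) fun y => ?_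
    · exact ringKrullDim_nonneg_of_nontrivial
    · obtain ⟨y, u, hu, rfl⟩ := y
      haveI : LocallyOfFiniteType (f.fiberToSpecResidueField (f u)) :=
        MorphismProperty.pullback_snd _ _ ‹LocallyOfFiniteType f›
      haveI : JacobsonSpace ↥(f.fiber (f u)) :=
        LocallyOfFiniteType.jacobsonSpace (f.fiberToSpecResidueField (f u))
      obtain ⟨z, hz, hzc⟩ := nonempty_inter_closedPoints (X := ↥(f.fiber (f u)))
        (Z := (f.fiberι (f u)) ⁻¹' (U : Set X)) ⟨f.asFiber u, by
          show f.fiberι (f u) (f.asFiber u) ∈ (U : Set X)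
          rw [Scheme.Hom.fiberι_asFiber]; exact hu⟩ ((f.fiberι (f u) ⁻¹ᵁ U).2.isLocallyClosed)
      obtain ⟨w, hw⟩ : ∃ w, w = f.fiberι (f u) z := ⟨_, rfl⟩
      have hfw : f w = f u := by
        have h : f.fiberι (f u) z ∈ f ⁻¹' {f u} := by rw [← Scheme.Hom.range_fiberι]; exact ⟨z, rfl⟩
        rw [hw]; exact h
      have hst : ringKrullDim ((f.fiber (f w)).presheaf.stalk (f.asFiber w)) = (d : WithBot ℕ∞) := by
        haveI : LocallyOfFiniteType (f.fiberToSpecResidueField (f w)) :=
          MorphismProperty.pullback_snd _ _ ‹LocallyOfFiniteType f›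
        have hcl : IsClosed ({f.asFiber w} : Set ↥(f.fiber (f w))) := by
          have key : ∀ (y : Y) (_ : y = f u) (a : f.fiber y), f.fiberι y a = w → IsClosed ({a} : Set ↥(f.fiber y)) := by
            intro y hy a ha
            subst hy
            rw [show a = z from (f.fiberι (f u)).isEmbedding.injective (ha.trans hw)]
            exact hzc
          exact key (f w) hfw _ (f.fiberι_asFiber w)
        rw [← DimFormulaLib.localDim_eq_of_isClosed (k := Y.residueField (f w)) (f.fiberToSpecResidueField (f w)) _ hcl]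
        exact ChevalleyOpen.fibreDimAt_eq_of_components f d (fun x' => hd (f x')) w
      have hwU : w ∈ U := hw ▸ hz
      refine le_trans ?_ (stalk_le_dim_opens U w hwU)
      rw [stalk_formula f w, hst, hfw]

end Groth.Agent.FlatRelDim
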